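import Cfsg.Agent.H787.BD.Asm
import Cfsg.Agent.H510.BD.Rows
import Cfsg.Agent.H585.BD.PslTwo
import Cfsg.Agent.H585.BD.RankTwo
import Cfsg.Agent.H978.BD.TameGcd
import Cfsg.Agent.H978.BD.KillPsl
import Cfsg.Agent.H849.BD.Exc

/-!
# S4932 / S4953: the table `TabSmall`, and `PSL_n(q)` for `p` odd, `p ∤ q` (helper787)

Adaptors for the theorems of helper510, helper585, helper978, helper849.
-/

set_option autoImplicit false

namespace Cfsg.Agent.H787.BD

open Cfsg Cfsg.Agent.H589.BD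

universe u

theorem not_dvd_card {p r : ℕ} (hp : p.Prime) (hr : r.Prime) (hpr : p ≠ r) (F : Type) [Field F] [Fintype F]
    [CharP F r] : ¬ p ∣ Fintype.card F := by
  obtain ⟨k, -, hk⟩ := FiniteField.card F r
  rw [hk]
  exact fun h => hpr ((Nat.prime_dvd_prime_iff_eq hp hr).1 (hp.dvd_of_dvd_pow h))

theorem three_le {p : ℕ} (hp : p.Prime) (h2 : p ≠ 2) : 3 ≤ p := by
  have := hp.two_le
  omega

theorem five_le {p : ℕ} (hp : p.Prime) (h2 : p ≠ 2) (h3 : p ≠ 3) : 5 ≤ p := by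
  have := hp.two_le
  by_contra h
  have h4 : p = 4 := by omega
  subst h4
  exact absurd hp (by decide)

theorem nine_le {p : ℕ} (hp : p.Prime) (h2 : p ≠ 2) : 9 ≤ p ^ 2 := by
  have := three_le hp h2
  nlinarith

/-- `PSL_n(q)`, `p` odd, `p ∤ q`. -/
theorem psl_all {p r : ℕ} (hp : p.Prime) (hr : r.Prime) (h2 : p ≠ 2) (hpr : p ≠ r) (F : Type) [Field F] [Fintype F]
    [CharP F r] {n : ℕ} (hn : 2 ≤ n) (h4 : n = 2 → 4 ≤ Fintype.card F) :
    RowsOf.{u} p (fun S _ => Nonempty (S ≃* Matrix.ProjectiveSpecialLinearGroup (Fin n) F)) := by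
  intro S _ _ _ hna hz hd ⟨e⟩
  have : Fact p.Prime := ⟨hp⟩
  have hpF := not_dvd_card hp hr hpr F
  have h9 := nine_le hp h2
  rcases (show n = 2 ∨ n = 3 ∨ 4 ≤ n by omega) with rfl | rfl | hn4
  · exact Or.inr (H585.BD.tame_psl_two hna e (h4 rfl) hpF)
  · by_cases h3 : p = 3
    · subst h3
      exact Or.inr (H585.BD.tame_psl_three_three hna e hpF)
    · refine Or.inr (H510.BD.tame_psl hna h2 hpF le_rfl (fun h => ?_)
        (lt_of_le_of_lt (Nat.div_le_self _ _) (by omega)) e)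
      have h5 := (Nat.prime_dvd_prime_iff_eq hp Nat.prime_three).1 (h.trans (Nat.gcd_dvd_left _ _))
      exact h3 h5
  · by_cases hnp : n < p ^ 2
    · by_cases h42 : n = 4 ∧ Fintype.card F = 2
      · obtain ⟨rfl, hF⟩ := h42
        refine Or.inr (H510.BD.tame_psl hna h2 hpF (by norm_num) (fun h => ?_)
          (lt_of_le_of_lt (Nat.div_le_self _ _) hnp) e)
        have h5 : p ∣ 1 := by
          have := h.trans (Nat.gcd_dvd_right _ _)
          rwa [hF] at this
        exact hp.one_lt.ne' (Nat.dvd_one.1 h5)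
      · exact Or.inr (H978.BD.tame_psl hna h2 hn4 hnp e hpF h42)
    · rcases Nat.lt_or_ge (n / orderOf ((Fintype.card F : ℕ) : ZMod p)) (p ^ 2) with hw | hw
      · refine Or.inr (H510.BD.tame_psl hna h2 hpF (by omega) (fun h => ?_) hw e)
        have h5 : p ∣ Fintype.card F - 1 := h.trans (Nat.gcd_dvd_right _ _)
        have h6 : ((Fintype.card F : ℕ) : ZMod p) = 1 := by
          have h7 : ((Fintype.card F - 1 : ℕ) : ZMod p) = 0 := (ZMod.natCast_eq_zero_iff _ _).2 h5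
          rw [Nat.cast_sub Fintype.card_pos, Nat.cast_one, sub_eq_zero] at h7
          exact h7
        rw [h6, orderOf_one, Nat.div_one] at hw
        exact hnp hw
      · exact Or.inl (H978.BD.kill_psl hna hz h2 e hpF hw)

/-- `PSU_n(q)`, `p` odd, `p ∤ q`: the tame cases. -/
theorem psu_tame {p r : ℕ} (hp : p.Prime) (hr : r.Prime) (h2 : p ≠ 2) (hpr : p ≠ r) (F : Type) [Field F] [Fintype F]
    [CharP F r] {n q : ℕ} (hF : Fintype.card F = q ^ 2) (hn : 3 ≤ n) (h32 : ¬ (n = 3 ∧ q = 2))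
    (hw : n < p ^ 2 ∨ n / orderOf (-(q : ZMod p)) < p ^ 2) :
    RowsOf.{u} p (fun S _ => Nonempty (S ≃* PSU n F q)) := by
  intro S _ _ _ hna hz hd ⟨e⟩
  have : Fact p.Prime := ⟨hp⟩
  have hpF := not_dvd_card hp hr hpr F
  have hpq : ¬ p ∣ q := fun h => hpF (by rw [hF]; exact h.trans (dvd_pow_self q (by norm_num)))
  have h9 := nine_le hp h2
  rcases (show n = 3 ∨ 4 ≤ n by omega) with rfl | hn4
  · by_cases h3 : p = 3
    · subst h3
      exact Or.inr (H585.BD.tame_psu_three_three hna hF e h32 hpq)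
    · refine Or.inr (H510.BD.tame_psu hna h2 hF hpq le_rfl h32 (fun h => ?_)
        (lt_of_le_of_lt (Nat.div_le_self _ _) (by omega)) e)
      have h5 := (Nat.prime_dvd_prime_iff_eq hp Nat.prime_three).1 (h.trans (Nat.gcd_dvd_left _ _))
      exact h3 h5
  · by_cases hnp : n < p ^ 2
    · by_cases h42 : n = 4 ∧ q = 2
      · obtain ⟨rfl, rfl⟩ := h42
        refine Or.inr (H510.BD.tame_psu hna h2 hF hpq (by norm_num) h32 (fun h => ?_)
          (lt_of_le_of_lt (Nat.div_le_self _ _) hnp) e)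
        exact hp.one_lt.ne' (Nat.dvd_one.1 (by simpa using h))
      · by_cases h43 : n = 4 ∧ q = 3
        · obtain ⟨rfl, rfl⟩ := h43
          refine Or.inr (H510.BD.tame_psu hna h2 hF hpq (by norm_num) h32 (fun h => ?_)
            (lt_of_le_of_lt (Nat.div_le_self _ _) hnp) e)
          have h5 : p ∣ 2 ^ 2 := by simpa using h
          exact h2 ((Nat.prime_dvd_prime_iff_eq hp Nat.prime_two).1 (hp.dvd_of_dvd_pow h5))
        · exact Or.inr (H978.BD.tame_psu hna hn4 hnp hF e hpq h42 h43 h2)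
    · have hw' := hw.resolve_left hnp
      refine Or.inr (H510.BD.tame_psu hna h2 hF hpq hn h32 (fun h => ?_) hw' e)
      have h5 : p ∣ q + 1 := h.trans (Nat.gcd_dvd_right _ _)
      have h6 : -((q : ℕ) : ZMod p) = 1 := by
        have h7 : ((q + 1 : ℕ) : ZMod p) = 0 := (ZMod.natCast_eq_zero_iff _ _).2 h5
        rw [Nat.cast_add, Nat.cast_one] at h7
        rw [neg_eq_iff_add_eq_zero]
        exact h7
      rw [h6, orderOf_one, Nat.div_one] at hw'
      exact hnp hw'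

theorem ordF_pos {p r : ℕ} (hp : p.Prime) (hr : r.Prime) (hpr : p ≠ r) (F : Type) [Field F] [Fintype F]
    [CharP F r] : 0 < ordF p F := by
  have : Fact p.Prime := ⟨hp⟩
  have hu : IsUnit ((Fintype.card F : ℕ) : ZMod p) := by
    rw [ZMod.isUnit_iff_coprime, Nat.coprime_comm]
    exact (Nat.Prime.coprime_iff_not_dvd hp).2 (not_dvd_card hp hr hpr F)
  obtain ⟨x, hx⟩ := hu
  unfold ordF
  rw [← hx, orderOf_units]
  exact orderOf_pos x

theorem lcm_odd {e : ℕ} (h : Odd e) : Nat.lcm 2 e = 2 * e :=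
  Nat.Coprime.lcm_eq_mul (Nat.coprime_two_left.2 h)

theorem lcm_even {e : ℕ} (h : Even e) : Nat.lcm 2 e = e :=
  Nat.lcm_eq_right (even_iff_two_dvd.1 h)

/-- The table `TabSmall`. -/
theorem tabSmall : TabSmall.{u} where
  psl := fun _ _ hp hr h2 hpr F _ _ _ _ hn h4 _ _ => psl_all hp hr h2 hpr F hn h4
  psp := by
    intro p r hp hr h2 hpr F _ _ _ m hm hm3 hb S _ _ _ hna hz hd ⟨e⟩
    have : Fact p.Prime := ⟨hp⟩
    have hpos := ordF_pos hp hr hpr F
    refine Or.inr (H510.BD.tame_psp hna h2 (not_dvd_card hp hr hpr F) hm hm3 ?_ e)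
    exact (Nat.div_lt_iff_lt_mul (Nat.lcm_pos (by norm_num) hpos)).2 hb
  psu := fun p r hp hr h2 hpr F _ _ _ n q hF hn h32 hb _ =>
    psu_tame hp hr h2 hpr F hF hn h32 (by
      right
      have : Fact p.Prime := ⟨hp⟩
      have hpF := not_dvd_card hp hr hpr F
      have hpq : ¬ p ∣ q := fun h => hpF (by rw [hF]; exact h.trans (dvd_pow_self q (by norm_num)))
      have hu : IsUnit ((q : ℕ) : ZMod p) := by
        rw [ZMod.isUnit_iff_coprime, Nat.coprime_comm]
        exact (Nat.Prime.coprime_iff_not_dvd hp).2 hpq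
      obtain ⟨x, hx⟩ := hu.neg
      have h5 : 0 < orderOf (-(q : ZMod p)) := by
        rw [← hx, orderOf_units]
        exact orderOf_pos x
      exact (Nat.div_lt_iff_lt_mul h5).2 hb)
  odd := by
    intro p r hp hr h2 hpr F _ _ _ m hm hodd hb S _ _ _ hna hz hd ⟨e⟩
    have : Fact p.Prime := ⟨hp⟩
    have hpos := ordF_pos hp hr hpr F
    refine Or.inr (H510.BD.tame_pomegaOdd hna h2 (not_dvd_card hp hr hpr F) hm hodd ?_ e)
    exact (Nat.div_lt_iff_lt_mul (Nat.lcm_pos (by norm_num) hpos)).2 hb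
  plus := by
    intro p r hp hr h2 hpr F _ _ _ m hm hb S _ _ _ hna hz hd ⟨e⟩
    have : Fact p.Prime := ⟨hp⟩
    have hpos := ordF_pos hp hr hpr F
    have hbd : bnd p F = p ^ 2 * Nat.lcm 2 (ordF p F) := rfl
    refine Or.inr (H510.BD.tame_pomegaPlus hna h2 (not_dvd_card hp hr hpr F) hm ?_ ?_ e)
    · intro ho
      have ho' : Odd (ordF p F) := ho
      rw [lcm_odd ho'] at hbd
      rcases hb with hb | ⟨-, hb⟩
      · refine (Nat.div_lt_iff_lt_mul hpos).2 ?_
        rw [hbd] at hb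
        have : p ^ 2 * (2 * ordF p F) = 2 * (p ^ 2 * ordF p F) := by ring
        change m < p ^ 2 * ordF p F
        omega
      · exact absurd ho' (Nat.not_odd_iff_even.2 hb)
    · intro he
      have he' : Even (ordF p F) := he
      rw [lcm_even he'] at hbd
      rcases hb with hb | ⟨hb, -⟩
      · left
        refine (Nat.div_lt_iff_lt_mul hpos).2 ?_
        rwa [hbd] at hb
      · right
        rw [hb, hbd]
        exact mul_comm _ _
  minus := by
    intro p r hp hr h2 hpr F _ _ _ m a b hm hab hb S _ _ _ hna hz hd ⟨e⟩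
    have : Fact p.Prime := ⟨hp⟩
    have hpos := ordF_pos hp hr hpr F
    have hbd : bnd p F = p ^ 2 * Nat.lcm 2 (ordF p F) := rfl
    refine Or.inr (H510.BD.tame_pomegaMinus hna h2 (not_dvd_card hp hr hpr F) hm a b hab ?_ ?_ e)
    · intro ho
      have ho' : Odd (ordF p F) := ho
      rw [lcm_odd ho'] at hbd
      refine (Nat.div_lt_iff_lt_mul hpos).2 ?_
      have h5 : p ^ 2 * (2 * ordF p F) = 2 * (p ^ 2 * ordF p F) := by ring
      change m - 1 < p ^ 2 * ordF p F
      rcases hb with hb | ⟨hb, -⟩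
      · omega
      · omega
    · intro he
      have he' : Even (ordF p F) := he
      rw [lcm_even he'] at hbd
      rcases hb with hb | ⟨-, hb⟩
      · refine (Nat.div_lt_iff_lt_mul hpos).2 ?_
        rwa [hbd] at hb
      · exact absurd hb (Nat.not_odd_iff_even.2 he')
  g2 := by
    intro p r hp hr h2 hpr F _ _ _ h3 S _ _ _ hna hz hd ⟨e⟩
    exact Or.inr (H849.BD.tame_G2 hna h3 e hp (not_dvd_card hp hr hpr F))
  f4 := by
    intro p r hp hr h2 hpr F _ _ _ S _ _ _ hna hz hd ⟨e⟩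
    exact Or.inr (H849.BD.tame_F4 hna e hp (three_le hp h2) (not_dvd_card hp hr hpr F))
  e6 := by
    intro p r hp hr h2 h3 hpr F _ _ _ S _ _ _ hna hz hd ⟨e⟩
    exact Or.inr (H849.BD.tame_E6 hna e hp (five_le hp h2 h3) (not_dvd_card hp hr hpr F))
  e7 := by
    intro p r hp hr h2 h3 hpr F _ _ _ S _ _ _ hna hz hd ⟨e⟩
    exact Or.inr (H849.BD.tame_E7 hna e hp (five_le hp h2 h3) (not_dvd_card hp hr hpr F))
  e8 := by
    intro p r hp hr h2 h3 hpr F _ _ _ S _ _ _ hna hz hd ⟨e⟩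
    exact Or.inr (H849.BD.tame_E8 hna e hp (five_le hp h2 h3) (not_dvd_card hp hr hpr F))
  te := by
    intro p r hp hr h2 h3 hpr K _ _ _ q hq hF S _ _ _ hna hz hd ⟨e⟩
    exact Or.inr (H849.BD.tame_2E6 hna hq hF e hp (five_le hp h2 h3) (not_dvd_card hp hr hpr K))
  td := by
    intro p r hp hr h2 hpr K _ _ _ q hq hF S _ _ _ hna hz hd ⟨e⟩
    exact Or.inr (H849.BD.tame_3D4 hna hq hF e hp (not_dvd_card hp hr hpr K))
  sz := by
    intro p hp h2 S _ _ _ hna hz hd ⟨F, _, _, m, hm, hF, ⟨e⟩⟩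
    exact Or.inr (H849.BD.tame_Sz hna hm hF e hp (three_le hp h2))
  tf := by
    intro p hp h2 S _ _ _ hna hz hd ⟨F, _, _, m, hm, hF, ⟨e⟩⟩
    exact Or.inr (H849.BD.tame_2F4 hna hm hF e hp (three_le hp h2))
  ree := by
    intro p hp h2 h3 S _ _ _ hna hz hd ⟨F, _, _, m, hm, hF, ⟨e⟩⟩
    exact Or.inr (H849.BD.tame_Ree hna hm hF e hp h3)

end Cfsg.Agent.H787.BD
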